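import Cfsg.Agent.BZ.C1.Gen
import Cfsg.Agent.TAB.Eng.Gram
import Cfsg.Agent.H725.Cod
import Cfsg.Agent.H669.Basic

/-!
# BZ, covers: degrees over a central character from the table of the quotient (helper53)

`V` : virtual characters of `S` which vanish on the `r`-singular elements, with Gram matrix `G`.  Their lifts over `ν` have the same
Gram matrix; the multiplicities `x` of an irreducible character satisfy the inequality of Bessel (search `go`), and a quadratic form
`QL` of positive trace is positive at one of them.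

* `core` : some `χ` over `ν` has coordinates with `P`; `Co.deg` : the degree from the coordinates; `exists_deg`, `fd`.
-/

set_option autoImplicit false
set_option linter.unusedSectionVars false

namespace Cfsg.Agent.BZ.C5

open Cfsg Subgroup Finset Cfsg.Agent.TAB.Eng Cfsg.Agent.BZ.Comp Cfsg.Agent.Characters.Core Cfsg.Agent.H447.CTab
open scoped ComplexConjugate

/-- scalar product of two lists -/
noncomputable def dt (r : List ℤ) : List ℤ → ℤ :=
  List.rec (fun _ => 0) (fun a _ ih w => List.rec 0 (fun b w' _ => Int.add (Int.mul a b) (ih w')) w) r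

theorem dt_nil (w : List ℤ) : dt [] w = 0 := rfl

theorem dt_nil' (r : List ℤ) : dt r [] = 0 := by cases r <;> rfl

theorem dt_cons (a b : ℤ) (r w : List ℤ) : dt (a :: r) (b :: w) = a * b + dt r w := rfl

/-- the list `x (n - 1), …, x 0` -/
noncomputable def rev (x : ℕ → ℤ) (n : ℕ) : List ℤ := Nat.rec [] (fun i l => x i :: l) n

theorem rev_succ (x : ℕ → ℤ) (n : ℕ) : rev x (n + 1) = x n :: rev x n := rfl

theorem dt_sum {R J : Type*} [CommRing R] [Fintype J] (a : ℕ → J → ℤ) (f : J → R) (y : ℕ → ℤ) (c : R) (n : ℕ)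
    (h : ∀ i < n, ∑ g, (a i g : R) * f g = c * y i) (r : List ℤ) :
    ∑ g, (dt r (rev (fun i => a i g) n) : R) * f g = c * dt r (rev y n) := by
  induction n generalizing r with
  | zero => simp [show ∀ x, rev x 0 = [] from fun _ => rfl, dt_nil']
  | succ n ih =>
    cases r with
    | nil => simp [dt_nil]
    | cons b r =>
      simp only [rev_succ, dt_cons, Int.cast_add, Int.cast_mul, add_mul, sum_add_distrib, mul_assoc, ← mul_sum]
      rw [ih fun i hi => h i (hi.trans n.lt_succ_self), h n n.lt_succ_self]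
      ring

theorem dt_zero {x : ℕ → ℤ} (h : ∀ i, x i = 0) (n : ℕ) (r : List ℤ) : dt r (rev x n) = 0 := by
  induction n generalizing r with
  | zero => exact dt_nil' r
  | succ n ih => cases r with
    | nil => rfl
    | cons b r => rw [rev_succ, dt_cons, ih, h, mul_zero, add_zero]

/-- the bilinear form of `G` -/
noncomputable def bil (G : List (List ℤ)) (u : List ℤ) (m : ℕ) (v : List ℤ) (n : ℕ) : ℤ :=
  dt u (rev (fun i => dt v (rev (nth (ntd G [] i)) n)) m)

theorem bil_eq {I : Type*} [Fintype I] {a : ℕ → I → ℤ} {G : List (List ℤ)} {k : ℕ}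
    (h : ∀ i < k, ∀ j < k, ∑ x, a i x * a j x = nth (ntd G [] i) j) (u v : List ℤ) {m n : ℕ} (hm : m ≤ k) (hn : n ≤ k) :
    ∑ x, dt u (rev (fun i => a i x) m) * dt v (rev (fun i => a i x) n) = bil G u m v n := by
  have h1 := dt_sum (R := ℤ) a (fun x => dt v (rev (fun i => a i x) n)) (fun i => dt v (rev (nth (ntd G [] i)) n)) 1 m
    (fun i hi => by
      have h2 := dt_sum (R := ℤ) a (a i) (nth (ntd G [] i)) 1 n (fun j hj => by
        rw [one_mul, ← h i (hi.trans_le hm) j (hj.trans_le hn)]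
        exact sum_congr rfl fun x _ => mul_comm _ _) v
      rw [← h2]
      exact sum_congr rfl fun x _ => mul_comm _ _) u
  rwa [one_mul] at h1

/-- all integers of absolute value at most `c` -/
noncomputable def rng (c : ℕ) (f : ℤ → Bool) : Bool :=
  Nat.rec (f (Int.ofNat 0)) (fun i ih => f (Int.ofNat (Nat.succ i)) && f (Int.negSucc i) && ih) c

theorem rng_spec {c : ℕ} {f : ℤ → Bool} (h : rng c f = true) {x : ℤ} (hx : x.natAbs ≤ c) : f x = true := by
  induction c with
  | zero => rwa [Int.natAbs_eq_zero.1 (Nat.le_zero.1 hx)]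
  | succ c ih =>
    have h1 : (f (Int.ofNat (c + 1)) && f (Int.negSucc c) && rng c f) = true := h
    rw [Bool.and_eq_true, Bool.and_eq_true] at h1
    rcases hx.eq_or_lt with h2 | h2
    · rcases Int.natAbs_eq x with h3 | h3
      · rw [h3, h2]; exact h1.1.1
      · rw [h3, h2]; exact h1.1.2
    · exact ih h1.2 (Nat.lt_succ_iff.1 h2)

/-- a level of the search : bound, weight, row -/
abbrev Lv : Type := ℕ × ℕ × List ℤ

/-- the search -/
noncomputable def go (L : ℕ) (fin : List ℤ → Bool) (lv : List Lv) : List ℤ → ℕ → Bool :=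
  List.rec (fun xs _ => fin xs) (fun l _ ih xs s => rng l.1 fun x => frc (dt l.2.2 (x :: xs)).natAbs fun y =>
    frc (Nat.add s (Nat.mul l.2.1 (Nat.mul y y))) fun s' => Nat.blt L s' || ih (x :: xs) s') lv

theorem go_spec {L : ℕ} {fin : List ℤ → Bool} (x : ℕ → ℤ) (lv : List Lv) (j s : ℕ) (h : go L fin lv (rev x j) s = true)
    (h1 : ∀ k < lv.length, (x (j + k)).natAbs ≤ (ntd lv (0, 0, []) k).1)
    (h2 : s + ∑ k ∈ range lv.length, (ntd lv (0, 0, []) k).2.1 * ((dt (ntd lv (0, 0, []) k).2.2 (rev x (j + k + 1))).natAbs *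
      (dt (ntd lv (0, 0, []) k).2.2 (rev x (j + k + 1))).natAbs) ≤ L) : fin (rev x (j + lv.length)) = true := by
  induction lv generalizing j s with
  | nil => exact h
  | cons l lv ih =>
    have h3 := rng_spec (f := fun y => frc (dt l.2.2 (y :: rev x j)).natAbs fun z =>
      frc (Nat.add s (Nat.mul l.2.1 (Nat.mul z z))) fun s' => Nat.blt L s' || go L fin lv (y :: rev x j) s') h
      (h1 0 (Nat.succ_pos _))
    simp only [frc_eq, Bool.or_eq_true, Nat.blt_eq, Nat.add_eq, Nat.mul_eq, Nat.add_zero] at h3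
    rw [List.length_cons, sum_range_succ'] at h2
    have h4 : s + (∑ k ∈ range lv.length, (ntd lv (0, 0, []) k).2.1 *
        ((dt (ntd lv (0, 0, []) k).2.2 (rev x (j + (k + 1) + 1))).natAbs *
          (dt (ntd lv (0, 0, []) k).2.2 (rev x (j + (k + 1) + 1))).natAbs) +
        l.2.1 * ((dt l.2.2 (x j :: rev x j)).natAbs * (dt l.2.2 (x j :: rev x j)).natAbs)) ≤ L := h2
    rw [List.length_cons, ← add_assoc, add_right_comm]
    refine ih (j + 1) _ (h3.resolve_left (by omega)) (fun k hk => ?_) ?_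
    · rw [add_right_comm]
      exact h1 (k + 1) (Nat.succ_lt_succ hk)
    · simp only [add_right_comm j 1, add_assoc j] at h4 ⊢
      omega

/-- the quadratic form -/
noncomputable def qf (QL : List (List ℤ × List ℤ)) (xs : List ℤ) : ℤ :=
  List.rec 0 (fun q _ ih => Int.add (Int.mul (dt q.1 xs) (dt q.2 xs)) ih) QL

/-- its trace -/
noncomputable def tq (G : List (List ℤ)) (n : ℕ) (QL : List (List ℤ × List ℤ)) : ℤ :=
  List.rec 0 (fun q _ ih => Int.add (bil G q.1 n q.2 n) ih) QL

theorem qf_zero {x : ℕ → ℤ} (h : ∀ i, x i = 0) (n : ℕ) (QL : List (List ℤ × List ℤ)) : qf QL (rev x n) = 0 := by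
  induction QL with
  | nil => rfl
  | cons q QL ih =>
    change dt q.1 _ * dt q.2 _ + qf QL _ = 0
    rw [ih, dt_zero h, zero_mul, add_zero]

theorem tq_eq {I : Type*} [Fintype I] {a : ℕ → I → ℤ} {G : List (List ℤ)} {k : ℕ}
    (h : ∀ i < k, ∀ j < k, ∑ x, a i x * a j x = nth (ntd G [] i) j) (QL : List (List ℤ × List ℤ)) :
    ∑ x, qf QL (rev (fun i => a i x) k) = tq G k QL := by
  induction QL with
  | nil => exact sum_const_zero
  | cons q QL ih =>
    change ∑ x, (dt q.1 _ * dt q.2 _ + qf QL _) = bil G q.1 k q.2 k + tq G k QL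
    rw [sum_add_distrib, ih, bil_eq h _ _ le_rfl le_rfl]

/-- the check of the levels -/
noncomputable def okL (G : List (List ℤ)) (L : ℕ) (lv : List Lv) : Bool :=
  allL (fun k => decide (nth (ntd G [] k) k < ((ntd lv (0, 0, []) k).1 + 1 : ℕ) * ((ntd lv (0, 0, []) k).1 + 1 : ℕ)) &&
    Nat.beq ((ntd lv (0, 0, []) k).2.1 * (L / (ntd lv (0, 0, []) k).2.1)) L &&
    allL (fun l => decide (bil G (ntd lv (0, 0, []) k).2.2 (k + 1) (ntd lv (0, 0, []) l).2.2 (l + 1) =
      if k = l then ((L / (ntd lv (0, 0, []) k).2.1 : ℕ) : ℤ) else 0)) (List.range lv.length)) (List.range lv.length)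

/-- the check of the form -/
noncomputable def okQ (G : List (List ℤ)) (L : ℕ) (lv : List Lv) (QL : List (List ℤ × List ℤ)) (P : List ℤ → Bool) : Bool :=
  decide (0 < tq G lv.length QL) && go L (fun xs => P xs || decide (qf QL xs ≤ 0)) lv [] 0

/-- the combinatorial part -/
theorem comb_core {I : Type*} [Fintype I] (a : ℕ → I → ℤ) {G : List (List ℤ)} {L : ℕ} {lv : List Lv}
    (h : ∀ i < lv.length, ∀ j < lv.length, ∑ x, a i x * a j x = nth (ntd G [] i) j) (h1 : okL G L lv = true)
    {QL : List (List ℤ × List ℤ)} {P : List ℤ → Bool} (h2 : okQ G L lv QL P = true) :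
    ∃ x, ¬ (∀ i, a i x = 0) ∧ P (rev (fun i => a i x) lv.length) = true := by
  by_contra hc
  push Not at hc
  rw [okQ, Bool.and_eq_true, decide_eq_true_eq, ← tq_eq h] at h2
  refine h2.1.not_ge (sum_nonpos fun x _ => ?_)
  by_cases h0 : ∀ i, a i x = 0
  · exact (qf_zero h0 _ _).le
  have h3 := fun k hk => allL_spec h1 k (List.mem_range.2 hk)
  simp only [Bool.and_eq_true, decide_eq_true_eq, Nat.beq_eq] at h3
  have h4 := go_spec (fun i => a i x) lv 0 0 h2.2 (fun k hk => by
      have h5 := sq_le_dot (a k) x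
      have h6 := (h3 k hk).1.1
      rw [← h k hk k hk] at h6
      have h7 := h5.trans_lt h6
      rw [zero_add, ← Nat.lt_succ_iff, Nat.mul_self_lt_mul_self_iff.symm]
      zify
      rwa [abs_mul_abs_self]) (by
      have h5 := bessel (fun k y => dt (ntd lv (0, 0, []) k).2.2 (rev (fun i => a i y) (k + 1))) (range lv.length)
        (fun k => L / (ntd lv (0, 0, []) k).2.1) (fun k => (ntd lv (0, 0, []) k).2.1)
        (fun k hk => (h3 k (mem_range.1 hk)).1.2) (fun k hk l hl =>
          (bil_eq h _ _ (mem_range.1 hk) (mem_range.1 hl)).trans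
            (of_decide_eq_true (allL_spec (h3 k (mem_range.1 hk)).2 l (List.mem_range.2 (mem_range.1 hl))))) x
      simp only [zero_add]
      zify
      simpa only [abs_mul_abs_self] using h5)
  simp only [zero_add, Bool.or_eq_true, decide_eq_true_eq] at h4
  push Not at h0
  exact h4.resolve_left (hc x h0)

variable {r : ℕ} [hr : Fact r.Prime] {K S : Type} [Group K] [Group S] [Finite K] {σ : K →* S} {D : Dat} {T : TD S D}

/-- the check of the vectors -/
noncomputable def okV (D : Dat) (r : ℕ) (V G : List (List ℤ)) (n : ℕ) : Bool :=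
  Nat.beq D.cntL.length D.n &&
    allL (fun v => allL (fun t => !(Nat.beq (D.ord t % r) 0) || decide (nth v t = 0)) (List.range D.n)) V &&
    allL (fun i => allL (fun j => decide (ip D (ntd V [] i) (ntd V [] j) = D.N * nth (ntd G [] i) j)) (List.range n))
      (List.range n)

/-- `x` are the coordinates of `χ` -/
def Co (r : ℕ) (σ : K →* S) (T : TD S D) (V : List (List ℤ)) (χ : K → ℂ) (x : ℕ → ℤ) : Prop :=
  ∃ γ : S → ℂ, (∀ s, ¬ r ∣ orderOf s → χ s = γ (σ s)) ∧ ∀ i, ∑ᶠ g, (nth (ntd V [] i) (T.ty g) : ℂ) * conj (γ g) = D.N * x i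

/-- **the search** -/
theorem core (h : Ext r σ) (ν : σ.ker →* ℂˣ) (hm : T.Mass) {V G : List (List ℤ)} (hV : ∀ v ∈ V, Virt T (nth v)) {L : ℕ}
    {lv : List Lv} (h0 : okV D r V G lv.length = true) (h1 : okL G L lv = true) {QL : List (List ℤ × List ℤ)}
    {P : List ℤ → Bool} (h2 : okQ G L lv QL P = true) :
    ∃ (χ : IrrCharacter K) (x : ℕ → ℤ), Ov σ ν χ ∧ Co r σ T V χ x ∧ P (rev x lv.length) = true := by
  have := Fintype.ofFinite K
  have := Finite.of_surjective σ h.surj
  have := Fintype.ofFinite S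
  have := finite_irr (G := K)
  have := Fintype.ofFinite (IrrCharacter K)
  simp only [okV, Bool.and_eq_true, Nat.beq_eq] at h0
  choose Φ h3 h4 using fun i => exists_up h ν (Virt.ntd hV i) fun g hg => by
    rcases ntd_mem V [] i with h5 | h5
    · rw [h5, nth_nil, Int.cast_zero]
    · have h6 := allL_spec (allL_spec h0.1.2 _ h5) _ (List.mem_range.2 (T.lt g))
      rw [← T.ord, Nat.mod_eq_zero_of_dvd hg] at h6
      rw [of_decide_eq_true h6, Int.cast_zero]
  obtain ⟨χ, h5, h6⟩ := comb_core (fun i χ => mu (h3 i) χ) (fun i hi j hj => by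
    have h5 := inner_of_ip hm h0.1.1 (of_decide_eq_true
      (allL_spec (allL_spec h0.2 i (List.mem_range.2 hi)) j (List.mem_range.2 hj)))
    exact_mod_cast (inner_sum_mu (h3 i) (h3 j)).symm.trans (((h4 i).inner h (h4 j)).trans h5)) h1 h2
  push Not at h5
  obtain ⟨i, hi⟩ := h5
  have ho := (h4 i).ov h χ.2 (by rw [inner_mu (h3 i)]; exact_mod_cast hi)
  obtain ⟨γ, -, h7⟩ := exists_down h χ
  refine ⟨χ, _, ho, ⟨γ, h7, fun j => ?_⟩, h6⟩
  rw [← inner_mu, (h4 j).inner_irr h χ.2 ho h7, classInner, ← hm.1, mul_inv_cancel_left₀ card_ne_zero_complex,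
    finsum_eq_sum_of_fintype]

/-- the check of the degree functional -/
noncomputable def okD (D : Dat) (V : List (List ℤ)) (n : ℕ) (e : List ℤ) (m : ℕ) : Bool :=
  allL (fun t => decide (dt e (rev (fun i => nth (ntd V [] i) t) n) = if D.ord t = 1 then ((D.N * m : ℕ) : ℤ) else 0))
    (List.range D.n)

theorem Co.deg [Finite S] (hm : T.Mass) {V : List (List ℤ)} {χ : IrrCharacter K} {x : ℕ → ℤ} (h : Co r σ T V χ x) {n m : ℕ}
    {e : List ℤ} (he : okD D V n e m = true) : dt e (rev x n) = (m * charDegree (χ : K → ℂ) : ℕ) := by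
  have := Fintype.ofFinite S
  obtain ⟨γ, h1, h2⟩ := h
  simp only [finsum_eq_sum_of_fintype] at h2
  have h3 := dt_sum (fun i g => nth (ntd V [] i) (T.ty g)) (fun g => conj (γ g)) x D.N n (fun i _ => h2 i) e
  have h4 : ∀ g, dt e (rev (fun i => nth (ntd V [] i) (T.ty g)) n) = if D.ord (T.ty g) = 1 then ((D.N * m : ℕ) : ℤ) else 0 :=
    fun g => of_decide_eq_true (allL_spec he _ (List.mem_range.2 (T.lt g)))
  rw [sum_eq_single 1 (fun g _ hg => by
      rw [h4, if_neg (by rwa [← T.ord, orderOf_eq_one_iff]), Int.cast_zero, zero_mul]) fun h => absurd (mem_univ _) h,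
    h4, if_pos (by rw [← T.ord, orderOf_one]), ← map_one σ, ← h1 1 reg_one, Blocks.Basic.irr_one_eq_charDegree χ.2, map_natCast, Int.cast_natCast,
    Nat.cast_mul, mul_assoc] at h3
  have h5 := mul_left_cancel₀ (by rw [← hm.1]; exact card_ne_zero_complex) h3
  exact_mod_cast h5.symm

/-- the test on the degree -/
noncomputable def pd (e : List ℤ) (m N r : ℕ) (P : ℕ → Bool) (xs : List ℤ) : Bool :=
  Int.rec (fun y => frc y fun y => Nat.beq (Nat.mod y m) 0 && frc (Nat.div y m) fun d =>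
    Nat.beq (Nat.mod N d) 0 && Nat.beq (Nat.mod d r) 0 && !(P d)) (fun _ => false) (dt e xs)

theorem dvd_deg (h : Ext r σ) (hp : commutator K = ⊤) (hc : Nat.card σ.ker = r) {χ : IrrCharacter K}
    (hf : ∀ z ∈ σ.ker, (χ : K → ℂ) z = (χ : K → ℂ) 1 → z = 1) : r ∣ charDegree (χ : K → ℂ) := by
  obtain ⟨z, hz⟩ := exists_prime_orderOf_dvd_card' (G := σ.ker) r hc.symm.dvd
  obtain ⟨c, h1, h2⟩ := H725.Cod.exists_scalar hp χ z (h.cen z.2)
  rw [← hz, ← orderOf_coe]
  exact orderOf_dvd_of_pow_eq_one (hf _ (pow_mem z.2 _) (by rw [h1, h2, one_mul]))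

variable {p : ℕ} [hp : Fact p.Prime] {M : Ideal AlgInt} {B : Set (IrrCharacter K)} {E : Subgroup K}

/-- **a faithful character whose degree has the property `P`** -/
theorem fd (H : Hyp p M B E σ) (hc : Nat.card (center K) = r) (hm : T.Mass) {V G : List (List ℤ)}
    (hV : ∀ v ∈ V, Virt T (nth v)) {L m : ℕ} {lv : List Lv} {e : List ℤ} (h0 : okV D r V G lv.length = true)
    (h1 : okL G L lv = true) (he : okD D V lv.length e m = true) (hm0 : 0 < m) {QL : List (List ℤ × List ℤ)} {P : ℕ → Bool}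
    (h2 : okQ G L lv QL (fun xs => !(pd e m (D.N * r) r P xs)) = true) :
    ∃ χ : IrrCharacter K, (∀ z ∈ center K, (χ : K → ℂ) z = (χ : K → ℂ) 1 → z = 1) ∧ P (charDegree (χ : K → ℂ)) = true := by
  have := Finite.of_surjective σ H.surj
  obtain ⟨ν, hν⟩ := C1.exists_nu H hr.out hc
  obtain ⟨χ, x, h3, h4, h5⟩ := core (C1.ext H hc) ν hm hV h0 h1 h2
  refine ⟨χ, hν χ h3, ?_⟩
  have h6 := dvd_deg (C1.ext H hc) H.qs.1.commutator_eq_top (H.ker ▸ hc) (H.ker ▸ hν χ h3)
  have h7 := H669.Basic.charDegree_dvd_card χ.2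
  rw [H.card_eq, hm.1, hc] at h7
  rw [pd, h4.deg hm he] at h5
  have h8 : (!frc (m * charDegree (χ : K → ℂ)) fun y => Nat.beq (y % m) 0 && frc (y / m) fun d =>
    Nat.beq (D.N * r % d) 0 && Nat.beq (d % r) 0 && !(P d)) = true := h5
  rw [frc_eq, frc_eq, Nat.mul_mod_right, Nat.mul_div_cancel_left _ hm0, Nat.mod_eq_zero_of_dvd h6,
    Nat.mod_eq_zero_of_dvd h7] at h8
  simpa using h8

end Cfsg.Agent.BZ.C5
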